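import Groth.Agent.DixTors.Push
import Groth.Agent.EtClosedPts.Curve

/-!
# Torsion of the cohomology of direct images from the spectrum of a field
-/

set_option autoImplicit false
set_option backward.isDefEq.respectTransparency false
set_option backward.isDefEq.respectTransparency.types false
set_option linter.style.haveILetI false

universe u

open CategoryTheory CategoryTheory.Limits AlgebraicGeometry Opposite CategoryTheory.Abelian

noncomputable section

namespace Groth.Agent.DixTors

open EtTraceLib EtPtsLib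

variable {k : Type u} [Field k]

/-- Cohomology in positive degrees of a direct image from the spectrum of a field is torsion. -/
theorem isAddTorsion_H_push {X : Scheme.{u}} [CompactSpace X] [QuasiSeparatedSpace X]
    (f : Spec (CommRingCat.of k) ⟶ X) [QuasiCompact f] :
    ∀ (n : ℕ) (F : EtCoh.Ab (Spec (CommRingCat.of k))) (x : EtCoh.H X ((EtCoh.push f).obj F) (n + 1)),
      IsOfFinAddOrder x := by
  haveI : PreservesFiniteLimits (EtCoh.pull f) := Groth.Agent.S0101.result f
  let P := EtCoh.push f
  haveI : P.IsRightAdjoint := (EtCoh.pullPushAdj f).isRightAdjoint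
  haveI : P.Additive := Functor.additive_of_preserves_binary_products P
  intro n
  induction n with
  | zero =>
    intro F x
    obtain ⟨m, hm, hmx⟩ := isOfFinAddOrder_iff_nsmul_eq_zero.1 (isOfFinAddOrder k F 0 (EtLim.HofPush f F 1 x))
    refine isOfFinAddOrder_iff_nsmul_eq_zero.2 ⟨m, hm, transpose_one_eq_zero (EtCoh.pullPushAdj f) _ _ _ ?_⟩
    have h : EtLim.HofPush f F 1 (m • x) = 0 := by rw [map_nsmul, hmx]
    rw [hofPush_eq] at h
    have := congrArg (fun z => (Ext.mk₀ (EtCore.pullConst f ℤ).hom).comp z (zero_add 1)) h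
    simpa only [Ext.comp_zero, Ext.mk₀_comp_mk₀_assoc, Iso.hom_inv_id, Ext.mk₀_id_comp] using this
  | succ n ih =>
    intro F x
    let i := Injective.ι F
    let C := cokernel i
    let S := ShortComplex.mk i (cokernel.π i) (cokernel.condition i)
    have hS : S.ShortExact := ⟨ShortComplex.exact_of_g_is_cokernel _ (cokernelIsCokernel i)⟩
    let φ := P.map (cokernel.π i)
    haveI : Injective (P.obj (Injective.under F)) :=
      Injective.injective_of_adjoint (EtCoh.pullPushAdj f) _
    obtain ⟨w, hS₁⟩ := EtClosedPts.shortExact_image φ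
    let S₂ := ShortComplex.mk (Abelian.image.ι φ) (cokernel.π φ) (kernel.condition _)
    have hS₂ : S₂.ShortExact := ⟨ShortComplex.exact_of_f_is_kernel _ (kernelIsKernel _)⟩
    have hker : IsLimit (KernelFork.ofι (P.map i) (by rw [← P.map_comp, cokernel.condition, Functor.map_zero] :
        P.map i ≫ φ = 0)) :=
      isLimitForkMapOfIsLimit' P (cokernel.condition i) (monoIsKernelOfCokernel (CokernelCofork.ofπ (cokernel.π i) (cokernel.condition i)) (cokernelIsCokernel i))
    let eK : kernel φ ≅ P.obj F := (kernelIsKernel φ).conePointUniqueUpToIso hker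
    -- classes of the image have finite order
    have hI : ∀ y : EtCoh.H X (Abelian.image φ) (n + 1), IsOfFinAddOrder y := by
      intro y
      obtain ⟨m, hm, hmy⟩ := isOfFinAddOrder_iff_nsmul_eq_zero.1
        (ih C (y.comp (Ext.mk₀ (Abelian.image.ι φ)) (add_zero (n + 1))))
      let a := ((EtCoh.HF X (n + 1)).map (Abelian.image.ι φ)).hom
      obtain ⟨z, hz⟩ := Ext.covariant_sequence_exact₁ _ hS₂ (m • y) ((map_nsmul a m y).trans hmy) rfl
      let δ : Ext (EtCoh.const X ℤ) S₂.X₃ n →+ Ext (EtCoh.const X ℤ) S₂.X₁ (n + 1) :=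
        AddMonoidHom.mk' (fun e => e.comp hS₂.extClass rfl) fun a a' => Ext.add_comp _ _ _ _
      have hQ : EtCoh.IsTorsion S₂.X₃ := isTorsion_of_comp_eq_zero f hS (cokernel.π φ) (cokernel.condition φ)
      obtain ⟨m', hm', hz'⟩ := isOfFinAddOrder_iff_nsmul_eq_zero.1 (FLCLib.isAddTorsion_H hQ n z)
      refine isOfFinAddOrder_iff_nsmul_eq_zero.2 ⟨m' * m, Nat.mul_pos hm' hm, ?_⟩
      rw [mul_smul, ← hz]
      exact (map_nsmul δ m' z).symm.trans ((congrArg δ hz').trans (map_zero δ))
    let g := ((EtCoh.HF X (n + 2)).map eK.inv).hom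
    let g' := ((EtCoh.HF X (n + 2)).map eK.hom).hom
    have hgg : g' (g x) = x := by
      show (EtCoh.HF X (n + 2)).map eK.hom ((EtCoh.HF X (n + 2)).map eK.inv x) = x
      rw [← ConcreteCategory.comp_apply, ← Functor.map_comp, eK.inv_hom_id, CategoryTheory.Functor.map_id]
      rfl
    obtain ⟨y, hy⟩ := Ext.covariant_sequence_exact₁ _ hS₁ (g x)
      (Ext.eq_zero_of_injective (I := P.obj (Injective.under F)) _) rfl
    let δ₁ : Ext (EtCoh.const X ℤ) (Abelian.image φ) (n + 1) →+ Ext (EtCoh.const X ℤ) (kernel φ) (n + 2) :=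
      AddMonoidHom.mk' (fun e => e.comp hS₁.extClass rfl) fun a a' => Ext.add_comp _ _ _ _
    obtain ⟨m, hm, hmy⟩ := isOfFinAddOrder_iff_nsmul_eq_zero.1 (hI y)
    refine isOfFinAddOrder_iff_nsmul_eq_zero.2 ⟨m, hm, ?_⟩
    rw [← hgg, ← map_nsmul g', ← hy]
    exact (congrArg g' ((map_nsmul δ₁ m y).symm.trans ((congrArg δ₁ hmy).trans (map_zero δ₁)))).trans (map_zero g')

end Groth.Agent.DixTors
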