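import Groth.Agent.DixTors.Coh
import Groth.Agent.CurveNoeth.GmInj

/-!
# Torsion of the cohomology of the multiplicative group on reduced curves
-/

set_option autoImplicit false
set_option backward.isDefEq.respectTransparency false
set_option backward.isDefEq.respectTransparency.types false
set_option linter.style.haveILetI false
set_option maxHeartbeats 800000

universe u

open CategoryTheory CategoryTheory.Limits AlgebraicGeometry Opposite CategoryTheory.Abelian

noncomputable section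

namespace Groth.Agent.DixTors

open EtTraceLib EtPtsLib EtClosedPts CurveNoeth
open CoproductsFromFiniteFiltered

/-- Cohomology of a coproduct is torsion when that of the summands is. -/
theorem isOfFinAddOrder_H_coprod {Y : Scheme.{u}} [CompactSpace Y] [QuasiSeparatedSpace Y] {ι : Type u}
    (S : ι → EtCoh.Ab Y) {c : Cofan S} (hc : IsColimit c) (q : ℕ)
    (h : ∀ (i : ι) (e : EtCoh.H Y (S i) q), IsOfFinAddOrder e) (x : EtCoh.H Y c.pt q) : IsOfFinAddOrder x := by
  classical
  haveI : HasColimitsOfShape (Finset (Discrete ι)) (EtCoh.Ab Y) :=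
    hasColimitsOfShape_of_equivalence (AsSmall.equiv : Finset (Discrete ι) ≌ AsSmall.{u + 1} (Finset (Discrete ι))).symm
  let G := liftToFinsetObj (Discrete.functor S)
  let L := liftToFinsetColimitCocone (Discrete.functor S)
  let e := hc.coconePointUniqueUpToIso L.isColimit
  let Λ := AsSmall.{u + 1} (Finset (Discrete ι))
  let w : Λ ≌ Finset (Discrete ι) := AsSmall.equiv.symm
  haveI := CohColim.preserves_HF (X := Y) q Λ
  have hΛ := isColimitOfPreserves (EtCoh.HF Y q) ((colimit.isColimit G).whiskerEquivalence w)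
  have hall : ∀ x : EtCoh.H Y L.cocone.pt q, IsOfFinAddOrder x := fun x => by
    obtain ⟨a, y, hy⟩ := Concrete.isColimit_exists_rep _ hΛ x
    let T := w.functor.obj a
    let r : ∀ s : T, G.obj T ⟶ S s.1.as :=
      fun s => Sigma.desc fun s' : T => if h : s' = s then eqToHom (by subst h; rfl) else 0
    have hid : 𝟙 (G.obj T) = ∑ s : T, r s ≫ Sigma.ι (fun s : T => (Discrete.functor S).obj s.1) s := by
      refine Sigma.hom_ext _ _ fun s => ?_
      rw [Preadditive.comp_sum, Finset.sum_eq_single s]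
      · simp [r]
        exact Category.comp_id _
      · intro b _ hb
        simp [r, Ne.symm hb]
      · exact fun hn => absurd (Finset.mem_univ s) hn
    have hy0 : IsOfFinAddOrder (show Ext (EtCoh.const Y ℤ) (G.obj T) q from y) := by
      rw [← Ext.comp_mk₀_id (show Ext (EtCoh.const Y ℤ) (G.obj T) q from y), hid, Ext.mk₀_sum, Ext.comp_sum]
      refine Finset.sum_induction _ IsOfFinAddOrder (fun a b ha hb => ha.add hb) IsOfFinAddOrder.zero fun s _ => ?_
      rw [← Ext.mk₀_comp_mk₀, ← Ext.comp_assoc_of_second_deg_zero]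
      exact AddMonoidHom.isOfFinAddOrder
        ((EtCoh.HF Y q).map (Sigma.ι (fun s : T => (Discrete.functor S).obj s.1) s)).hom
        (h s.1.as ((show Ext (EtCoh.const Y ℤ) (G.obj T) q from y).comp (Ext.mk₀ (r s)) (add_zero q)))
    rw [← hy]
    exact AddMonoidHom.isOfFinAddOrder ((EtCoh.HF Y q).map (colimit.ι G (w.functor.obj a))).hom hy0
  have h1 := hall (x.comp (Ext.mk₀ e.hom) (add_zero q))
  have h2 : (x.comp (Ext.mk₀ e.hom) (add_zero q)).comp (Ext.mk₀ e.inv) (add_zero q) = x := by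
    rw [Ext.comp_assoc_of_second_deg_zero, Ext.mk₀_comp_mk₀, Iso.hom_inv_id, Ext.comp_mk₀_id]
  rw [← h2]
  exact AddMonoidHom.isOfFinAddOrder ((EtCoh.HF Y q).map e.inv).hom h1

variable {X : Scheme.{u}} [AlgebraicGeometry.IsNoetherian X]

/-- Higher cohomology of sheaves supported at closed points is torsion. -/
theorem isOfFinAddOrder_of_supp_closedPoints (F : EtCoh.Ab X)
    (hF : ∀ x ∈ EtPBC.supp F, IsClosed ({x} : Set X)) (n : ℕ) (e : EtCoh.H X F (n + 1)) : IsOfFinAddOrder e := by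
  haveI := isIso_desc F hF
  have hS := isOfFinAddOrder_H_coprod (fun x => part F x) (coproductIsCoproduct fun x => part F x) (n + 1)
    fun x a => by
      haveI := isIso_unit_of_supp x.1 x.2 (supp_part F x)
      let u := asIso ((EtCoh.pullPushAdj (X.fromSpecResidueField x.1)).unit.app (part F x))
      have h1 := isAddTorsion_H_push (k := (X.residueField x.1 : Type u)) (X.fromSpecResidueField x.1) n _
        (a.comp (Ext.mk₀ u.hom) (add_zero _))
      have h2 : (a.comp (Ext.mk₀ u.hom) (add_zero _)).comp (Ext.mk₀ u.inv) (add_zero _) = a := by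
        rw [Ext.comp_assoc_of_second_deg_zero, Ext.mk₀_comp_mk₀, Iso.hom_inv_id, Ext.comp_mk₀_id]
      rw [← h2]
      exact AddMonoidHom.isOfFinAddOrder ((EtCoh.HF X (n + 1)).map u.inv).hom h1
  have h2 : (e.comp (Ext.mk₀ (inv (desc F))) (add_zero _)).comp (Ext.mk₀ (desc F)) (add_zero _) = e := by
    rw [Ext.comp_assoc_of_second_deg_zero, Ext.mk₀_comp_mk₀, IsIso.inv_hom_id, Ext.comp_mk₀_id]
  rw [← h2]
  exact AddMonoidHom.isOfFinAddOrder ((EtCoh.HF X (n + 1)).map (desc F)).hom (hS _)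

/-- A map bijective at the maximal points detects torsion in higher cohomology. -/
theorem isOfFinAddOrder_of_map (hdim : topologicalKrullDim X ≤ 1) {F G : EtCoh.Ab X} (φ : F ⟶ G)
    (hgen : ∀ (Ω : Type u) [Field Ω] [IsSepClosed Ω] (ξ : Spec (CommRingCat.of Ω) ⟶ X),
      (∀ x ∈ Set.range ξ.base, ∀ y : X, y ⤳ x → y = x) → IsIso ((EtCoh.stalk ξ).map φ))
    (n : ℕ) (x : EtCoh.H X F (n + 2)) (hx : IsOfFinAddOrder (x.comp (Ext.mk₀ φ) (add_zero (n + 2)))) :
    IsOfFinAddOrder x := by
  have hK := isOfFinAddOrder_of_supp_closedPoints (kernel φ) (supp_closed_of_maximal hdim _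
    (fun Ω _ _ ξ h => (EtClosedPts.isZero_stalk_kernel_cokernel φ ξ (hgen Ω ξ h)).1))
  have hC := isOfFinAddOrder_of_supp_closedPoints (cokernel φ) (supp_closed_of_maximal hdim _
    (fun Ω _ _ ξ h => (EtClosedPts.isZero_stalk_kernel_cokernel φ ξ (hgen Ω ξ h)).2)) n
  obtain ⟨w, hS₁⟩ := EtClosedPts.shortExact_image φ
  let S₂ := ShortComplex.mk (Abelian.image.ι φ) (cokernel.π φ) (kernel.condition _)
  have hS₂ : S₂.ShortExact := ⟨ShortComplex.exact_of_f_is_kernel _ (kernelIsKernel _)⟩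
  obtain ⟨m, hm, hmx⟩ := isOfFinAddOrder_iff_nsmul_eq_zero.1 hx
  let a := ((EtCoh.HF X (n + 2)).map (Abelian.factorThruImage φ)).hom
  let b := ((EtCoh.HF X (n + 2)).map (Abelian.image.ι φ)).hom
  have hba : ∀ z, b (a z) = z.comp (Ext.mk₀ φ) (add_zero _) := fun z => by
    show Ext.comp (Ext.comp z (Ext.mk₀ (Abelian.factorThruImage φ)) (add_zero _))
      (Ext.mk₀ (Abelian.image.ι φ)) (add_zero _) = _
    rw [Ext.comp_assoc_of_second_deg_zero, Ext.mk₀_comp_mk₀, Abelian.image.fac]
  obtain ⟨z, hz⟩ := Ext.covariant_sequence_exact₁ _ hS₂ (m • a x)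
    ((map_nsmul b m (a x)).trans ((congrArg (m • ·) (hba x)).trans hmx)) rfl
  let δ : Ext (EtCoh.const X ℤ) S₂.X₃ (n + 1) →+ Ext (EtCoh.const X ℤ) S₂.X₁ (n + 2) :=
    AddMonoidHom.mk' (fun e => e.comp hS₂.extClass rfl) fun _ _ => Ext.add_comp _ _ _ _
  obtain ⟨m', hm', hz'⟩ := isOfFinAddOrder_iff_nsmul_eq_zero.1 (hC z)
  have h0 : a ((m' * m) • x) = 0 := by
    rw [mul_smul, map_nsmul, map_nsmul, ← hz]
    exact (map_nsmul δ m' z).symm.trans ((congrArg δ hz').trans (map_zero δ))
  obtain ⟨y, hy⟩ := Ext.covariant_sequence_exact₂ _ hS₁ _ h0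
  obtain ⟨m'', hm'', hy'⟩ := isOfFinAddOrder_iff_nsmul_eq_zero.1 (hK (n + 1) y)
  refine isOfFinAddOrder_iff_nsmul_eq_zero.2 ⟨m'' * (m' * m), Nat.mul_pos hm'' (Nat.mul_pos hm' hm), ?_⟩
  let c := ((EtCoh.HF X (n + 2)).map (kernel.ι φ)).hom
  rw [mul_smul, ← hy]
  exact (map_nsmul c m'' y).symm.trans ((congrArg c hy').trans (map_zero c))

/-- The cohomology of `G_m` in degrees at least two is torsion on a reduced Noetherian curve. -/
theorem isOfFinAddOrder_H_Gm [IsReduced X] (hdim : topologicalKrullDim X ≤ 1) (n : ℕ)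
    (ξ : EtCoh.H X (EtCoh.Gm X) (n + 2)) : IsOfFinAddOrder ξ := by
  obtain ⟨T, hT⟩ := CurveNoeth.exists_finset_maximal (X := X)
  let v : Fin T.card → X := fun a => (T.equivFin.symm a).1
  have hv : ∀ a, v a ∈ T := fun a => (T.equivFin.symm a).2
  have hvinj : Function.Injective v := Subtype.val_injective.comp T.equivFin.symm.injective
  let P : Fin T.card → EtCoh.Ab X := fun a => (EtCoh.push (jLoc (v a))).obj (EtCoh.Gm (Spec (X.presheaf.stalk (v a))))
  let φ : EtCoh.Gm X ⟶ ⨁ P := biproduct.lift fun z => EtLim.GmPush (jLoc (v z))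
  have ht : (∑ z, biproduct.π P z ≫ biproduct.ι P z) = 𝟙 (⨁ P) := biproduct.total
  refine isOfFinAddOrder_of_map hdim φ (fun Ω _ _ ξ hmax => ?_) n ξ ?_
  · have hmem : ξ default ∈ T := (hT _).2 (hmax _ ⟨default, rfl⟩)
    obtain ⟨z₀, hz₀⟩ : ∃ z₀, v z₀ = ξ default := ⟨T.equivFin ⟨_, hmem⟩, by simp [v]⟩
    haveI : (EtCoh.stalk ξ).Additive := Functor.additive_of_preserves_binary_products _
    haveI : IsIso ((EtCoh.stalk ξ).map (biproduct.π P z₀)) := by
      refine ⟨(EtCoh.stalk ξ).map (biproduct.ι P z₀), ?_, ?_⟩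
      · rw [← Functor.map_comp]
        refine Eq.trans ?_ ((EtCoh.stalk ξ).map_id (⨁ P))
        rw [← ht, Functor.map_sum, Finset.sum_eq_single z₀ (fun z _ hne => ?_) fun h => absurd (Finset.mem_univ _) h]
        have hz0 : IsZero ((EtCoh.stalk ξ).obj (P z)) := isZero_stalk_push_loc (v z) ((hT _).1 (hv z)) ξ
          (fun hs => hne (hvinj ((hmax _ ⟨default, rfl⟩ (v z) hs).trans hz₀.symm))) _
        rw [Functor.map_comp, hz0.eq_zero_of_tgt ((EtCoh.stalk ξ).map (biproduct.π P z)), zero_comp]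
      · rw [← Functor.map_comp, biproduct.ι_π_self, CategoryTheory.Functor.map_id]
    haveI := isIso_stalk_GmPush ((hT _).1 (hv z₀)) ξ hz₀.symm
    have hfac : (EtCoh.stalk ξ).map φ ≫ (EtCoh.stalk ξ).map (biproduct.π P z₀) =
        (EtCoh.stalk ξ).map (EtLim.GmPush (jLoc (v z₀))) := by
      rw [← Functor.map_comp, biproduct.lift_π]
    exact IsIso.of_isIso_fac_right hfac
  · rw [← Ext.comp_mk₀_id (ξ.comp (Ext.mk₀ φ) (add_zero _)), ← ht, Ext.mk₀_sum, Ext.comp_sum]
    refine Finset.sum_induction _ IsOfFinAddOrder (fun a b ha hb => ha.add hb) IsOfFinAddOrder.zero fun z _ => ?_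
    rw [← Ext.mk₀_comp_mk₀, ← Ext.comp_assoc_of_second_deg_zero]
    haveI := subsingleton_spec ((hT _).1 (hv z))
    have hA : IsField (X.presheaf.stalk (v z)) := by
      refine (IsLocalRing.isField_iff_maximalIdeal_eq).2 (eq_bot_iff.2 fun a ha => ?_)
      have hn : a ∈ nilradical (X.presheaf.stalk (v z)) := by
        rw [nilradical_eq_sInf, Ideal.mem_sInf]
        intro p hp
        have e : (⟨p, hp⟩ : PrimeSpectrum (X.presheaf.stalk (v z))) = IsLocalRing.closedPoint _ :=
          Subsingleton.elim (α := Spec (X.presheaf.stalk (v z))) _ _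
        have e' : p = IsLocalRing.maximalIdeal _ := congrArg PrimeSpectrum.asIdeal e
        rw [e']
        exact ha
      exact Ideal.mem_bot.2 (IsNilpotent.eq_zero hn)
    letI := hA.toField
    exact AddMonoidHom.isOfFinAddOrder ((EtCoh.HF X (n + 2)).map (biproduct.ι P z)).hom
      (isAddTorsion_H_push (k := (X.presheaf.stalk (v z) : Type u)) (jLoc (v z)) (n + 1) _ _)

end Groth.Agent.DixTors
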