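import Groth.Agent.CurveNoeth.GmStalk
import Groth.Agent.EtTraceLib.DivSheaf
import Groth.Agent.S3841

/-!
# Rational functions on a Noetherian scheme with factorial étale local rings
-/

set_option autoImplicit false
set_option backward.isDefEq.respectTransparency false
set_option backward.isDefEq.respectTransparency.types false
set_option linter.style.haveILetI false
set_option maxHeartbeats 1000000

universe u

open CategoryTheory CategoryTheory.Limits AlgebraicGeometry Opposite

noncomputable section

namespace Groth.Agent.DixTors.FDiv

open EtPtsLib CurveNoeth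
open EtTraceLib (str ffEt gmVal)

/-- All local rings of étale schemes are factorial domains. -/
abbrev FactScheme (X : Scheme.{u}) : Prop :=
  ∀ (U : X.Etale) (u : U.left), IsDomain (U.left.presheaf.stalk u) ∧ UniqueFactorizationMonoid (U.left.presheaf.stalk u)

variable {X : Scheme.{u}} [AlgebraicGeometry.IsNoetherian X]

variable (X) in
/-- The finite set of maximal points. -/
def maxSet : Finset X := (CurveNoeth.exists_finset_maximal (X := X)).choose

variable (X) in
/-- The maximal points, enumerated. -/
def pt (a : Fin (maxSet X).card) : X := ((maxSet X).equivFin.symm a).1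

theorem pt_max (a : Fin (maxSet X).card) : ∀ w : X, w ⤳ pt X a → w = pt X a :=
  ((CurveNoeth.exists_finset_maximal (X := X)).choose_spec _).1 ((maxSet X).equivFin.symm a).2

theorem pt_injective : Function.Injective (pt X) :=
  Subtype.val_injective.comp (maxSet X).equivFin.symm.injective

theorem exists_pt {y : X} (hy : ∀ w : X, w ⤳ y → w = y) : ∃ a, pt X a = y :=
  ⟨(maxSet X).equivFin ⟨y, ((CurveNoeth.exists_finset_maximal (X := X)).choose_spec y).2 hy⟩, by simp [pt]⟩

variable (X) in
/-- The direct images from the local schemes of the maximal points. -/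
abbrev Pf (a : Fin (maxSet X).card) : EtCoh.Ab X :=
  (EtCoh.push (jLoc (pt X a))).obj (EtCoh.Gm (Spec (X.presheaf.stalk (pt X a))))

variable (X) in
/-- The sheaf of rational functions. -/
abbrev RF : EtCoh.Ab X := ⨁ Pf X

variable (X) in
/-- The map to rational functions. -/
def toRF : EtCoh.Gm X ⟶ RF X := biproduct.lift fun a => EtLim.GmPush (jLoc (pt X a))

/-- Sections of the sheaf of rational functions. -/
abbrev RSect (V : X.Etale) : Type (u + 1) := EtCoh.sect (RF X) V

/-- Restriction. -/
abbrev rRes {V V' : X.Etale} (g : V' ⟶ V) (s : RSect V) : RSect V' := (RF X).obj.map g.op s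

theorem rsect_ext {V : X.Etale} {s t : RSect V}
    (h : ∀ a, (biproduct.π (Pf X) a).hom.app (op V) s = (biproduct.π (Pf X) a).hom.app (op V) t) : s = t := by
  let Γ := sheafToPresheaf X.smallEtaleTopology AddCommGrpCat.{u + 1} ⋙ (evaluation _ _).obj (op V)
  haveI : Γ.Additive := Functor.additive_of_preserves_binary_products _
  have key : ∀ r : RSect V, r = ∑ a, (biproduct.ι (Pf X) a).hom.app (op V) ((biproduct.π (Pf X) a).hom.app (op V) r) :=
    fun r => by
      have e := congrArg (fun m => (Γ.map m) r) (biproduct.total (f := Pf X))
      simp only [Functor.map_sum, CategoryTheory.Functor.map_id] at e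
      refine (id e.symm : _).trans ?_
      exact (map_sum (AddMonoidHom.mk' (fun m : Γ.obj (RF X) ⟶ Γ.obj (RF X) => m r) fun _ _ => rfl) _ _).trans
        (Finset.sum_congr rfl fun a _ => by rw [Functor.map_comp]; rfl)
  rw [key s, key t]
  simp only [h]

section IntegralEtale

variable (U : X.Etale) [IsIntegral U.left]

theorem str_genericPoint_maximal (w : X) (hw : w ⤳ str U (genericPoint U.left)) :
    w = str U (genericPoint U.left) := by
  obtain ⟨z, hz, rfl⟩ := Flat.generalizingMap (str U) hw
  rw [(hz.antisymm (genericPoint_specializes z)).eq]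

theorem eq_genericPoint_of_str {z : U.left} (hz : str U z = str U (genericPoint U.left)) : z = genericPoint U.left :=
  ((ASp.isGenLift_of_etale (str U)).eq_of_specializes hz (genericPoint_specializes z))

/-- The index of the component of an integral étale scheme. -/
def idx : Fin (maxSet X).card := (exists_pt (str_genericPoint_maximal U)).choose

theorem str_idx : str U (genericPoint U.left) = pt X (idx U) := (exists_pt (str_genericPoint_maximal U)).choose_spec.symm

theorem hone (z : U.left) (hz : str U z = pt X (idx U)) : z = genericPoint U.left :=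
  eq_genericPoint_of_str U (hz.trans (str_idx U).symm)

/-- The rational function of a section. -/
def ρval (s : RSect U) : U.left.functionField :=
  locVal U (genericPoint U.left) (str_idx U) ((biproduct.π (Pf X) (idx U)).hom.app (op U) s)

theorem ρval_ne_zero (s : RSect U) : ρval U s ≠ 0 := (isUnit_locVal U _ (str_idx U) _).ne_zero

theorem ρval_add (s t : RSect U) : ρval U (s + t) = ρval U s * ρval U t := by
  rw [ρval, map_add]
  exact map_mul (locEv U (genericPoint U.left) (str_idx U)) _ _

theorem subsingleton_sect_of_ne (a : Fin (maxSet X).card) (ha : a ≠ idx U) :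
    Subsingleton (EtCoh.sect (Pf X a) U) := by
  haveI : IsEmpty (locFib (pt X a) U) := ⟨fun w => ha (pt_injective (by
    have h := str_locFst (pt_max a) U w
    have hs : str U (genericPoint U.left) ⤳ str U (locFst (pt X a) U w) :=
      (genericPoint_specializes (locFst (pt X a) U w)).map (str U).continuous
    rw [h] at hs
    exact (pt_max a _ hs).symm.trans (str_idx U)))⟩
  refine ⟨fun s t => ?_⟩
  have : Subsingleton Γ(locFib (pt X a) U, ⊤) :=
    ⟨fun p q => TopCat.Presheaf.section_ext (locFib (pt X a) U).sheaf ⊤ p q fun z _ => isEmptyElim z⟩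
  exact ULift.ext _ _ (Additive.toMul.injective (Units.ext (this.elim _ _)))

theorem ρval_injective : Function.Injective (ρval U) := fun s t h => rsect_ext fun a => by
  by_cases ha : a = idx U
  · subst ha
    exact locVal_inj (pt_max _) _ (str_idx U) (hone U) h
  · exact @Subsingleton.elim _ (subsingleton_sect_of_ne U a ha) _ _

theorem exists_ρval_eq {c : U.left.functionField} (hc : c ≠ 0) : ∃ s, ρval U s = c := by
  obtain ⟨p, hp⟩ := (locEv_bijective (pt_max _) U (genericPoint U.left) (str_idx U) (hone U)).2 c
  obtain ⟨q, hq⟩ := (locEv_bijective (pt_max _) U (genericPoint U.left) (str_idx U) (hone U)).2 c⁻¹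
  have hpq : p * q = 1 := (locEv_bijective (pt_max _) U (genericPoint U.left) (str_idx U) (hone U)).1 (by
    rw [map_mul, map_one, hp, hq]
    exact mul_inv_cancel₀ hc)
  let t : EtCoh.sect (Pf X (idx U)) U :=
    (ULift.up (Additive.ofMul (Units.mkOfMulEqOne p q hpq)) :
      ULift.{u + 1} (Additive (Γ(locFib (pt X (idx U)) U, ⊤) : Type u)ˣ))
  refine ⟨(biproduct.ι (Pf X) (idx U)).hom.app (op U) t, ?_⟩
  have e : (biproduct.π (Pf X) (idx U)).hom.app (op U) ((biproduct.ι (Pf X) (idx U)).hom.app (op U) t) = t :=
    ConcreteCategory.congr_hom (congrArg (fun m => m.hom.app (op U)) (biproduct.ι_π_self (Pf X) (idx U))) t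
  rw [ρval, e]
  exact hp

theorem ρval_map {V : X.Etale} [IsIntegral V.left] (g : V ⟶ U) (s : RSect U) :
    haveI := etale_left g
    ρval V (rRes g s) = ffEt g.left (ρval U s) := by
  haveI := etale_left g
  have hgen := EtTraceLib.map_genericPoint_of_etale g.left
  have hstr : str V (genericPoint V.left) = str U (g.left (genericPoint V.left)) :=
    (congrArg (fun m : V.left ⟶ X => m (genericPoint V.left)) (Over.w g.hom)).symm
  have hidx : idx V = idx U := pt_injective (by rw [← str_idx V, ← str_idx U, hstr, hgen])
  have hu : str U (g.left (genericPoint V.left)) = pt X (idx U) := by rw [hgen]; exact str_idx U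
  have key : ∀ (a : Fin (maxSet X).card) (hv : str V (genericPoint V.left) = pt X a),
      a = idx U → locVal V (genericPoint V.left) hv ((biproduct.π (Pf X) a).hom.app (op V) (rRes g s)) =
        ffEt g.left (ρval U s) := by
    rintro a hv rfl
    rw [rRes, NatTrans.naturality_apply (biproduct.π (Pf X) (idx U)).hom g.op s]
    refine (locVal_map g (genericPoint V.left) hv hu _).trans ?_
    rw [ρval, ffEt, CommRingCat.comp_apply]
    congr 1
    have key2 : ∀ (p : U.left) (e : p = genericPoint U.left) (h : str U p = pt X (idx U))
        (r : EtCoh.sect (Pf X (idx U)) U),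
        locVal U p h r = U.left.presheaf.stalkSpecializes (Inseparable.of_eq e).specializes
          (locVal U (genericPoint U.left) (str_idx U) r) := by
      rintro p rfl h r
      simp
    exact key2 _ hgen hu _
  exact key _ (str_idx V) hidx

theorem ρval_GmPush (a : EtCoh.sect (EtCoh.Gm X) U) :
    ρval U ((toRF X).hom.app (op U) a) =
      U.left.presheaf.germ ⊤ (genericPoint U.left) trivial (gmVal U a : Γ(U.left, ⊤)) := by
  rw [ρval]
  refine Eq.trans (congrArg _ ?_) (locVal_GmPush U _ (str_idx U) a)
  exact ConcreteCategory.congr_hom (congrArg (fun m => m.hom.app (op U))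
    (biproduct.lift_π (fun b => EtLim.GmPush (jLoc (pt X b))) (idx U))) a

theorem ρval_eq_one {s : RSect U} : ρval U s = 1 ↔ s = 0 := by
  have h0 : ρval U (0 : RSect U) = 1 := by
    rw [ρval, map_zero]
    exact map_one (locEv U (genericPoint U.left) (str_idx U))
  exact ⟨fun h => ρval_injective U (h.trans h0.symm), fun h => h ▸ h0⟩

end IntegralEtale

theorem normal_etale (hreg : FactScheme X) (U : X.Etale) [IsIntegral U.left] : Pi1.IsNormalScheme U.left :=
  S3841.normal_of_ufd fun x => (hreg U x).2

end Groth.Agent.DixTors.FDiv
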