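import Groth.Agent.DixTors.FDivSeq
import Groth.Agent.DixTors.Curve
import Groth.Agent.CurveNoeth.OnePoint
import Groth.Agent.EtTraceLib.DixEasy

/-!
# The multiplicative group on schemes with factorial étale local rings
-/

set_option autoImplicit false
set_option backward.isDefEq.respectTransparency false
set_option backward.isDefEq.respectTransparency.types false
set_option linter.style.haveILetI false

universe u

open CategoryTheory CategoryTheory.Limits AlgebraicGeometry Opposite CategoryTheory.Abelian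

noncomputable section

namespace Groth.Agent.DixTors.FDiv

open EtPtsLib CurveNoeth
open EtTraceLib (Sk HtOne subsingleton_H_coprod H1_push_const_torsionFree)

variable {X : Scheme.{u}} [AlgebraicGeometry.IsNoetherian X]

omit [AlgebraicGeometry.IsNoetherian X] in
theorem factorial_stalk (hreg : FactScheme X) (x : X) : IsDomain (X.presheaf.stalk x) :=
  (hreg (EtCoh.top X) x).1

theorem isField_stalk_pt (hreg : FactScheme X) (a : Fin (maxSet X).card) : IsField (X.presheaf.stalk (pt X a)) := by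
  haveI := factorial_stalk hreg (pt X a)
  haveI := subsingleton_spec (pt_max (X := X) a)
  refine (IsLocalRing.isField_iff_maximalIdeal_eq).2 ?_
  have e : (⟨⊥, Ideal.isPrime_bot⟩ : PrimeSpectrum (X.presheaf.stalk (pt X a))) = IsLocalRing.closedPoint _ :=
    Subsingleton.elim (α := Spec (X.presheaf.stalk (pt X a))) _ _
  exact (congrArg PrimeSpectrum.asIdeal e).symm

/-- Cohomology of `G_m` in degrees at least two is torsion. -/
theorem isOfFinAddOrder_H_Gm (hreg : FactScheme X) (n : ℕ) (ξ : EtCoh.H X (EtCoh.Gm X) (n + 2)) :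
    IsOfFinAddOrder ξ := by
  obtain ⟨-, D, h, hS⟩ := exists_div_sequence hreg (coproductIsCoproduct fun x : HtOne X => Sk X x.1)
  have ht : (∑ z, biproduct.π (Pf X) z ≫ biproduct.ι (Pf X) z) = 𝟙 (RF X) := biproduct.total
  have h1 : IsOfFinAddOrder (ξ.comp (Ext.mk₀ (toRF X)) (add_zero (n + 2))) := by
    rw [← Ext.comp_mk₀_id (ξ.comp (Ext.mk₀ (toRF X)) (add_zero _)), ← ht, Ext.mk₀_sum, Ext.comp_sum]
    refine Finset.sum_induction _ IsOfFinAddOrder (fun a b ha hb => ha.add hb) IsOfFinAddOrder.zero fun z _ => ?_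
    rw [← Ext.mk₀_comp_mk₀, ← Ext.comp_assoc_of_second_deg_zero]
    letI := (isField_stalk_pt hreg z).toField
    exact AddMonoidHom.isOfFinAddOrder ((EtCoh.HF X (n + 2)).map (biproduct.ι (Pf X) z)).hom
      (isAddTorsion_H_push (k := (X.presheaf.stalk (pt X z) : Type u)) (jLoc (pt X z)) (n + 1) _ _)
  obtain ⟨m, hm, hmx⟩ := isOfFinAddOrder_iff_nsmul_eq_zero.1 h1
  let a := ((EtCoh.HF X (n + 2)).map (toRF X)).hom
  obtain ⟨z, hz⟩ := Ext.covariant_sequence_exact₁ _ hS (m • ξ) ((map_nsmul a m ξ).trans hmx) rfl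
  have hz1 : IsOfFinAddOrder z := isOfFinAddOrder_H_coprod (fun x : HtOne X => Sk X x.1)
    (coproductIsCoproduct fun x : HtOne X => Sk X x.1) (n + 1)
    (fun x e => isAddTorsion_H_push (k := (X.residueField x.1 : Type u)) (X.fromSpecResidueField x.1) n _ e) z
  obtain ⟨m', hm', hz'⟩ := isOfFinAddOrder_iff_nsmul_eq_zero.1 hz1
  let δ : Ext (EtCoh.const X ℤ) (∐ fun x : HtOne X => Sk X x.1) (n + 1) →+
      Ext (EtCoh.const X ℤ) (EtCoh.Gm X) (n + 2) :=
    AddMonoidHom.mk' (fun e => e.comp hS.extClass rfl) fun _ _ => Ext.add_comp _ _ _ _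
  refine isOfFinAddOrder_iff_nsmul_eq_zero.2 ⟨m' * m, Nat.mul_pos hm' hm, ?_⟩
  rw [mul_smul, ← hz]
  exact (map_nsmul δ m' z).symm.trans ((congrArg δ hz').trans (map_zero δ))

/-- A class of degree two vanishing over the local rings of the maximal points vanishes. -/
theorem eq_zero_of_maximal (hreg : FactScheme X) [∀ x : X, PreservesFiniteLimits (EtCoh.pull (X.fromSpecStalk x))]
    (ξ : EtCoh.H X (EtCoh.Gm X) 2)
    (hξ : ∀ y : X, (∀ w : X, w ⤳ y → w = y) → EtLim.HGmPull (X.fromSpecStalk y) 2 ξ = 0) : ξ = 0 := by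
  obtain ⟨-, D, h, hS⟩ := exists_div_sequence hreg (coproductIsCoproduct fun x : HtOne X => Sk X x.1)
  have ht : (∑ z, biproduct.π (Pf X) z ≫ biproduct.ι (Pf X) z) = 𝟙 (RF X) := biproduct.total
  have h1 : ξ.comp (Ext.mk₀ (toRF X)) (add_zero 2) = 0 := by
    rw [← Ext.comp_mk₀_id (ξ.comp (Ext.mk₀ (toRF X)) (add_zero _)), ← ht, Ext.mk₀_sum, Ext.comp_sum]
    refine Finset.sum_eq_zero fun z _ => ?_
    have hk : (ξ.comp (Ext.mk₀ (toRF X)) (add_zero 2)).comp (Ext.mk₀ (biproduct.π (Pf X) z)) (add_zero 2) = 0 := by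
      rw [Ext.comp_assoc_of_second_deg_zero, Ext.mk₀_comp_mk₀, toRF, biproduct.lift_π]
      haveI := subsingleton_spec (pt_max (X := X) z)
      refine H2_push_Gm_injective (jLoc (pt X z)) ?_
      rw [map_zero]
      exact hξ _ (pt_max z)
    rw [← Ext.mk₀_comp_mk₀, ← Ext.comp_assoc_of_second_deg_zero, hk, Ext.zero_comp]
  obtain ⟨z, hz⟩ := Ext.covariant_sequence_exact₁ _ hS ξ h1 rfl
  have hs := subsingleton_H_coprod (fun x : HtOne X => Sk X x.1)
    (coproductIsCoproduct fun x : HtOne X => Sk X x.1) 1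
    (fun x e => H1_push_const_torsionFree (X.residueField x.1) (X.fromSpecResidueField x.1) ℤ e)
  rw [← hz, @Subsingleton.elim _ hs z 0, Ext.zero_comp]

end Groth.Agent.DixTors.FDiv
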