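import Groth.Agent.DixTors.FGen

/-!
# Orders of rational functions on étale schemes
-/

set_option autoImplicit false
set_option backward.isDefEq.respectTransparency false
set_option backward.isDefEq.respectTransparency.types false
set_option linter.style.haveILetI false
set_option maxHeartbeats 1000000

universe u

open CategoryTheory CategoryTheory.Limits AlgebraicGeometry Opposite IsLocalRing

noncomputable section

namespace Groth.Agent.DixTors.FDiv

open EtPtsLib RefOne
open EtTraceLib (str ffEt gmVal ord_ffEt coheight_str isIntegral_openSub coheight_eq_one_iff Sk fib fibι str_fibι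
  exists_fibι_eq fibι_map zz skVal skVal_ext skVal_add skVal_zero skVal_map skMk skVal_skMk
  injective_app mono_of_injective prodIns prodIns_π_self prodIns_π_ne toProd inj_toProd mono_toProd exact_of_locally
  HtOne)

variable {X : Scheme.{u}} [AlgebraicGeometry.IsNoetherian X]

/-- An integral open neighbourhood. -/
theorem exists_intNbhd (hreg : FactScheme X) (V : X.Etale) (z : V.left) :
    ∃ W : V.left.Opens, z ∈ W ∧ IsIntegral (openSub V W).left :=
  haveI := (hreg V z).1
  AffLim.exists_isIntegral_nhd z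

theorem rRes_comp {V V' V'' : X.Etale} (g : V' ⟶ V) (g' : V'' ⟶ V') (s : RSect V) :
    rRes (g' ≫ g) s = rRes g' (rRes g s) := by
  show _ = (RF X).obj.map g'.op ((RF X).obj.map g.op s)
  rw [← Functor.map_comp_apply, ← op_comp]

/-- The order of a section of `j_* G_m` at a point. -/
def ordAt (hreg : FactScheme X) (V : X.Etale) (s : RSect V) (z : V.left) : ℤ :=
  haveI := (exists_intNbhd hreg V z).choose_spec.2
  Scheme.ord (X := (openSub V (exists_intNbhd hreg V z).choose).left)
    (ρval (openSub V (exists_intNbhd hreg V z).choose) (rRes (openIncl V _) s))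
    ⟨z, (exists_intNbhd hreg V z).choose_spec.1⟩

theorem ord_ρval_map (hreg : FactScheme X) {U U' : X.Etale} [IsIntegral U.left] [IsIntegral U'.left] (g : U' ⟶ U)
    (t : RSect U) {a : U'.left} (ha : Order.coheight a = 1) :
    Scheme.ord (ρval U' (rRes g t)) a = Scheme.ord (ρval U t) (g.left a) := by
  haveI := etale_left g
  rw [rRes, ρval_map U g t]
  exact ord_ffEt (normal_etale hreg U') (normal_etale hreg U) g.left ha (ρval_ne_zero U t)

/-- The order may be computed on any integral étale scheme over `V`. -/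
theorem ordAt_eq (hreg : FactScheme X) {V U : X.Etale} [IsIntegral U.left] (g : U ⟶ V) (s : RSect V)
    {a : U.left} (ha : Order.coheight a = 1) :
    ordAt hreg V s (g.left a) = Scheme.ord (ρval U (rRes g s)) a := by
  haveI := (exists_intNbhd hreg V (g.left a)).choose_spec.2
  set W := (exists_intNbhd hreg V (g.left a)).choose
  have hW : g.left a ∈ W := (exists_intNbhd hreg V (g.left a)).choose_spec.1
  haveI : IsIntegral (openSub U (g.left ⁻¹ᵁ W)).left := isIntegral_openSub U (z := a) hW
  have hr : Set.range ((g.left ⁻¹ᵁ W).ι ≫ g.left) ⊆ Set.range W.ι := by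
    rintro _ ⟨w, rfl⟩
    rw [Scheme.Opens.range_ι]
    exact w.2
  let l : (openSub U (g.left ⁻¹ᵁ W)).left ⟶ (openSub V W).left :=
    IsOpenImmersion.lift W.ι ((g.left ⁻¹ᵁ W).ι ≫ g.left) hr
  have hl : l ≫ W.ι = (g.left ⁻¹ᵁ W).ι ≫ g.left := IsOpenImmersion.lift_fac _ _ hr
  let g' : openSub U (g.left ⁻¹ᵁ W) ⟶ openSub V W := MorphismProperty.Over.homMk l (by
    show l ≫ W.ι ≫ V.hom = (g.left ⁻¹ᵁ W).ι ≫ U.hom
    rw [← Category.assoc, hl, Category.assoc]
    exact congrArg (_ ≫ ·) (Over.w g.hom))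
  have hsq : g' ≫ openIncl V W = openIncl U (g.left ⁻¹ᵁ W) ≫ g := MorphismProperty.Over.Hom.ext hl
  let a' : (openSub U (g.left ⁻¹ᵁ W)).left := ⟨a, hW⟩
  haveI := etale_left g'
  have ha' : Order.coheight a' = 1 := by
    rw [coheight_str] at ha ⊢
    exact ha
  have hga : g'.left a' = (⟨g.left a, hW⟩ : W.toScheme) := by
    apply Subtype.ext
    exact congrArg (fun m : (openSub U (g.left ⁻¹ᵁ W)).left ⟶ V.left => m a') hl
  show Scheme.ord (X := (openSub V W).left) (ρval (openSub V W) (rRes (openIncl V W) s)) ⟨g.left a, hW⟩ = _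
  rw [← hga, ← ord_ρval_map hreg g' _ ha', ← rRes_comp, hsq, rRes_comp,
    ord_ρval_map hreg (openIncl U (g.left ⁻¹ᵁ W)) _ ha']
  rfl

theorem ordAt_add (hreg : FactScheme X) (V : X.Etale) (s t : RSect V) (z : V.left) :
    ordAt hreg V (s + t) z = ordAt hreg V s z + ordAt hreg V t z := by
  haveI := (exists_intNbhd hreg V z).choose_spec.2
  unfold ordAt
  rw [rRes, map_add, ρval_add]
  exact Scheme.ord_mul (ρval_ne_zero _ _) (ρval_ne_zero _ _)

theorem ordAt_map (hreg : FactScheme X) {V V' : X.Etale} (g : V' ⟶ V) (s : RSect V) {z : V'.left}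
    (hz : ringKrullDim (X.presheaf.stalk (str V' z)) = 1) :
    ordAt hreg V' (rRes g s) z = ordAt hreg V s (g.left z) := by
  obtain ⟨W, hzW, hW⟩ := exists_intNbhd hreg V' z
  haveI := hW
  let a : (openSub V' W).left := ⟨z, hzW⟩
  have ha : Order.coheight a = 1 := coheight_str.2 hz
  have h1 := ordAt_eq hreg (openIncl V' W) (rRes g s) ha
  have h2 := ordAt_eq hreg (openIncl V' W ≫ g) s ha
  exact h1.trans ((congrArg (fun t => Scheme.ord (ρval (openSub V' W) t) a)
    (rRes_comp g (openIncl V' W) s).symm).trans h2.symm)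

/-- The order of a section of `G_m` is zero. -/
theorem ordAt_GmPush (hreg : FactScheme X) (V : X.Etale) (b : EtCoh.sect (EtCoh.Gm X) V) {z : V.left}
    (hz : ringKrullDim (X.presheaf.stalk (str V z)) = 1) :
    ordAt hreg V ((toRF X).hom.app (op V) b) z = 0 := by
  obtain ⟨W, hzW, hW⟩ := exists_intNbhd hreg V z
  haveI := hW
  let a : (openSub V W).left := ⟨z, hzW⟩
  have ha : Order.coheight a = 1 := coheight_str.2 hz
  refine (ordAt_eq hreg (openIncl V W) _ ha).trans ?_
  rw [rRes, ← NatTrans.naturality_apply, ρval_GmPush,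
    ← toK_germ (U := (⊤ : (openSub V W).left.Opens)) a trivial]
  exact scheme_ord_toK_unit ha ((gmVal _ _).isUnit.map _)

/-- Locally only finitely many codimension one points have nonzero order. -/
theorem exists_finite_nbhd (hreg : FactScheme X) (V : X.Etale) (s : RSect V) (z : V.left) :
    ∃ W : V.left.Opens, z ∈ W ∧
      {w : V.left | w ∈ W ∧ Order.coheight w = 1 ∧ ordAt hreg V s w ≠ 0}.Finite := by
  obtain ⟨W, hzW, hW⟩ := exists_intNbhd hreg V z
  haveI := hW
  let N := (openSub V W).left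
  let f := ρval (openSub V W) (rRes (openIncl V W) s)
  obtain ⟨O, hO, b, hb⟩ := N.presheaf.exists_germ_eq f
  let O' : N.Opens := N.basicOpen b
  have hgO' : genericPoint N ∈ O' := by
    rw [Scheme.mem_basicOpen N b _ hO]
    rw [hb]
    exact IsUnit.mk0 (show N.functionField from f) (ρval_ne_zero _ _)
  obtain ⟨_, ⟨A, hA, rfl⟩, hzA, -⟩ :=
    N.isBasis_affineOpens.exists_subset_of_mem_open (Set.mem_univ (⟨z, hzW⟩ : N)) isOpen_univ
  have hfin : {y : N | Order.coheight y = 1 ∧ y ∈ A ∧ Scheme.ord (show N.functionField from f) y ≠ 0}.Finite := by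
    refine (finite_codim_one_compl O' hgO' hA).subset fun y hy => ⟨hy.1, hy.2.1, fun hyO => hy.2.2 ?_⟩
    have hyO' : y ∈ O := N.basicOpen_le b hyO
    rw [Scheme.mem_basicOpen N b _ hyO'] at hyO
    rw [← hb, ← toK_germ y hyO']
    exact scheme_ord_toK_unit hy.1 hyO
  refine ⟨W.ι ''ᵁ A, ⟨⟨z, hzW⟩, hzA, rfl⟩, (hfin.image W.ι).subset ?_⟩
  rintro _ ⟨⟨y, hyA, rfl⟩, hy1, hy2⟩
  have hy1' : Order.coheight y = 1 := by
    rw [coheight_str] at hy1
    exact (coheight_str (V := openSub V W) (z := y)).2 hy1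
  refine ⟨y, ⟨hy1', hyA, ?_⟩, rfl⟩
  rw [ne_eq, ← ordAt_eq hreg (openIncl V W) s hy1']
  exact hy2

end Groth.Agent.DixTors.FDiv
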