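import Groth.Agent.EtTraceLib.H90Push
import Groth.Agent.EtTraceLib.PushAcyclic
import Groth.Agent.EtTraceLib.Kill
import Groth.Agent.EtTraceLib.SepExt
import Groth.Agent.FLCLib.Efface
import Groth.Agent.SpSeqLib.Acyclic

/-!
# Torsion of the higher direct images from the spectrum of a field
-/

set_option autoImplicit false
set_option backward.isDefEq.respectTransparency false
set_option backward.isDefEq.respectTransparency.types false
set_option linter.style.haveILetI false

universe u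

open CategoryTheory CategoryTheory.Limits AlgebraicGeometry Opposite CategoryTheory.Abelian

noncomputable section

namespace Groth.Agent.DixTors

open EtTraceLib EtPtsLib

variable {k : Type u} [Field k]

/-- A multiple of a global section lifts. -/
theorem exists_lift_global_mul {S : ShortComplex (EtCoh.Ab (Spec (CommRingCat.of k)))} (hS : S.ShortExact)
    (q : EtCoh.sect S.X₃ (EtCoh.top (Spec (CommRingCat.of k)))) :
    ∃ m : ℕ, 0 < m ∧ ∃ s : EtCoh.sect S.X₂ (EtCoh.top (Spec (CommRingCat.of k))), S.g.hom.app _ s = m • q := by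
  let X := Spec (CommRingCat.of k)
  let A := constantSheafAdj X.smallEtaleTopology AddCommGrpCat.{u + 1} (EtCore.topIsTerminal X)
  let b : EtCoh.const X ℤ ⟶ S.X₃ :=
    (A.homEquiv _ _).symm (AddCommGrpCat.ofHom (X := ULift.{u + 1} ℤ)
      ((zmultiplesHom _ q).comp AddEquiv.ulift.toAddMonoidHom))
  obtain ⟨m, hm, hmx⟩ := isOfFinAddOrder_iff_nsmul_eq_zero.1
    (isOfFinAddOrder k S.X₁ 0 ((Ext.mk₀ b).comp hS.extClass (zero_add 1)))
  let δ : Ext (EtCoh.const X ℤ) S.X₃ 0 →+ Ext (EtCoh.const X ℤ) S.X₁ 1 :=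
    AddMonoidHom.mk' (fun e => e.comp hS.extClass (zero_add 1)) fun a a' => Ext.add_comp _ _ _ _
  have h0 : (m • Ext.mk₀ b).comp hS.extClass (zero_add 1) = 0 := (map_nsmul δ m (Ext.mk₀ b)).trans hmx
  obtain ⟨z, hz⟩ := Ext.covariant_sequence_exact₃ _ hS _ rfl h0
  obtain ⟨z, rfl⟩ := (Ext.mk₀_bijective _ _).2 z
  rw [Ext.mk₀_comp_mk₀] at hz
  let mk : (EtCoh.const X ℤ ⟶ S.X₃) →+ Ext (EtCoh.const X ℤ) S.X₃ 0 :=
    AddMonoidHom.mk' Ext.mk₀ fun f g => Ext.mk₀_add f g
  have hmk : m • Ext.mk₀ b = Ext.mk₀ (m • b) := (map_nsmul mk m b).symm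
  rw [hmk] at hz
  have hz' : z ≫ S.g = m • b := (Ext.mk₀_bijective _ _).1 hz
  have hA := congrArg (fun f => (A.homEquiv _ _ f) (ULift.up.{u + 1} (1 : ℤ))) hz'
  simp only [Adjunction.homEquiv_naturality_right] at hA
  refine ⟨m, hm, (A.homEquiv _ _ z) (ULift.up.{u + 1} (1 : ℤ)), hA.trans ?_⟩
  have hb : (A.homEquiv _ _ b) (ULift.up.{u + 1} (1 : ℤ)) = q := by
    simp only [b, Equiv.apply_symm_apply]
    exact one_zsmul q
  let ev : (EtCoh.const X ℤ ⟶ S.X₃) →+ EtCoh.sect S.X₃ (EtCoh.top X) :=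
    AddMonoidHom.mk' (fun f => (A.homEquiv _ _ f) (ULift.up.{u + 1} (1 : ℤ))) fun f g => by
      haveI : (constantSheaf X.smallEtaleTopology AddCommGrpCat.{u + 1}).Additive :=
        Functor.additive_of_preserves_binary_products _
      show (A.homAddEquiv _ _ (f + g)) _ = (A.homAddEquiv _ _ f) _ + (A.homAddEquiv _ _ g) _
      rw [map_add]
      rfl
  exact (map_nsmul ev m b).trans (congrArg (m • ·) hb)

/-- A multiple of a section over a quasi-compact étale scheme lifts. -/
theorem exists_lift_sect_mul {S : ShortComplex (EtCoh.Ab (Spec (CommRingCat.of k)))} (hS : S.ShortExact)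
    (W : (Spec (CommRingCat.of k)).Etale) [CompactSpace W.left] (q : EtCoh.sect S.X₃ W) :
    ∃ m : ℕ, 0 < m ∧ ∃ s : EtCoh.sect S.X₂ W, S.g.hom.app _ s = m • q := by
  haveI : AlgebraicGeometry.Etale W.hom := W.prop
  haveI : DiscreteTopology W.left := by
    haveI : LocallyQuasiFinite W.hom := EtFibCard.locallyQuasiFinite_of_etale W.hom
    have h := W.hom.isDiscrete_preimage_singleton (IsLocalRing.closedPoint k)
    rw [show ⇑W.hom ⁻¹' {IsLocalRing.closedPoint k} = Set.univ from
      Set.eq_univ_of_forall fun y => Subsingleton.elim (α := PrimeSpectrum k) _ _] at h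
    haveI := h.to_subtype
    exact (Homeomorph.Set.univ W.left).discreteTopology
  haveI : Finite W.left := finite_of_compact_of_discrete
  haveI := Fintype.ofFinite W.left
  let O : W.left → W.left.Opens := fun w => ⟨{w}, isOpen_discrete _⟩
  have hpiece : ∀ w, ∃ m : ℕ, 0 < m ∧ ∃ t : EtCoh.sect S.X₂ (openSub W (O w)),
      S.g.hom.app _ t = m • S.X₃.obj.map (openIncl W (O w)).op q := by
    intro w
    haveI : Subsingleton (openSub W (O w)).left := ⟨fun a b => Subtype.ext (a.2.trans b.2.symm)⟩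
    haveI : Nonempty (openSub W (O w)).left := ⟨⟨w, rfl⟩⟩
    obtain ⟨L, _, _, _, _, ⟨i⟩⟩ := exists_iso_extObj k (openSub W (O w))
    obtain ⟨hl, hr⟩ := preservesFiniteLimits_restr (k := k) L
    let j : (EtShriek.compEtale (specπ k L)).obj (EtCoh.top (Spec (CommRingCat.of L))) ≅ extObj k L :=
      MorphismProperty.Over.isoMk (Iso.refl _)
    let i' := j ≪≫ i
    obtain ⟨m, hm, t, ht⟩ := exists_lift_global_mul (hS.map_of_exact (EtShriek.restrAlong (specπ k L)))
      (S.X₃.obj.map i'.hom.op (S.X₃.obj.map (openIncl W (O w)).op q))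
    refine ⟨m, hm, S.X₂.obj.map i'.inv.op t, ?_⟩
    rw [NatTrans.naturality_apply S.g.hom i'.inv.op t]
    refine (congrArg (S.X₃.obj.map i'.inv.op) ht).trans ?_
    refine (map_nsmul (S.X₃.obj.map i'.inv.op).hom m _).trans ?_
    refine congrArg (m • ·) ?_
    show S.X₃.obj.map i'.inv.op (S.X₃.obj.map i'.hom.op _) = _
    rw [← Functor.map_comp_apply, ← op_comp, Iso.inv_hom_id, op_id, CategoryTheory.Functor.map_id]
    rfl
  choose m hm t ht using hpiece
  let M := ∏ w, m w
  have hM : ∀ w, m w ∣ M := fun w => Finset.dvd_prod_of_mem _ (Finset.mem_univ w)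
  choose c hc using hM
  let F : Sheaf (Spec (CommRingCat.of k)).smallEtaleTopology (Type (u + 1)) := (sheafCompose _ (forget AddCommGrpCat.{u + 1})).obj S.X₂
  obtain ⟨s, hs⟩ := exists_glue F W O
    (fun a b hab => TopologicalSpace.Opens.coe_disjoint.1 (Set.disjoint_singleton.2 hab)) (fun x => ⟨x, rfl⟩)
    (fun w => c w • t w)
  refine ⟨M, Finset.prod_pos fun w _ => hm w, s, ?_⟩
  rw [← sub_eq_zero]
  refine sect_eq_zero_of_locally S.X₃ _ fun x => ⟨openSub W (O x), openIncl W (O x), ⟨⟨x, rfl⟩, rfl⟩, ?_⟩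
  rw [map_sub, sub_eq_zero, ← NatTrans.naturality_apply S.g.hom (openIncl W (O x)).op s]
  refine (congrArg (S.g.hom.app _) (hs x)).trans ((map_nsmul (S.g.hom.app _).hom (c x) (t x)).trans ?_)
  refine (congrArg (c x • ·) (ht x)).trans ?_
  rw [smul_smul, mul_comm, ← hc x]
  exact (map_nsmul (S.X₃.obj.map (openIncl W (O x)).op).hom M q).symm

/-- The cokernel of the direct image of an epimorphism from the spectrum of a field is torsion. -/
theorem isTorsion_of_comp_eq_zero {X : Scheme.{u}} (f : Spec (CommRingCat.of k) ⟶ X) [QuasiCompact f]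
    {S : ShortComplex (EtCoh.Ab (Spec (CommRingCat.of k)))} (hS : S.ShortExact) {Q : EtCoh.Ab X}
    (p : (EtCoh.push f).obj S.X₃ ⟶ Q) [Epi p] (hp : (EtCoh.push f).map S.g ≫ p = 0) : EtCoh.IsTorsion Q := by
  intro U s x
  haveI : Sheaf.IsLocallySurjective p := (Sheaf.isLocallySurjective_iff_epi' AddCommGrpCat.{u + 1} p).2 inferInstance
  obtain ⟨V, g, v, ⟨a, ha⟩, hv⟩ := exists_mem_of_covering
    (Presheaf.imageSieve_mem X.smallEtaleTopology p.hom (U := op U) s) x
  obtain ⟨_, ⟨(O : V.left.Opens), hO, rfl⟩, hvO, -⟩ :=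
    V.left.isBasis_affineOpens.exists_subset_of_mem_open (Set.mem_univ v) isOpen_univ
  haveI : IsAffine O.toScheme := hO
  let W := openSub V O
  haveI : CompactSpace W.left := inferInstanceAs (CompactSpace ↥O.toScheme)
  haveI : CompactSpace ((EtCoh.bc f).obj W).left := by
    haveI : CompactSpace ((𝟭 Scheme.{u}).obj W.left : Scheme.{u}) := inferInstanceAs (CompactSpace ↥O.toScheme)
    haveI : QuasiCompact (pullback.fst W.hom f) := inferInstance
    exact QuasiCompact.compactSpace_of_compactSpace (pullback.fst W.hom f)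
  obtain ⟨m, hm, b, hb⟩ := exists_lift_sect_mul hS ((EtCoh.bc f).obj W)
    (((EtCoh.push f).obj S.X₃).obj.map (openIncl V O).op a)
  refine ⟨W, openIncl V O ≫ g, ⟨⟨v, hvO⟩, by
    show g.left.base ((openIncl V O).left.base _) = x
    exact hv⟩, isOfFinAddOrder_iff_nsmul_eq_zero.2 ⟨m, hm, ?_⟩⟩
  rw [op_comp, Functor.map_comp_apply, ← ha]
  have e : Q.obj.map (openIncl V O).op (p.hom.app (op V) a) =
      p.hom.app (op W) (((EtCoh.push f).obj S.X₃).obj.map (openIncl V O).op a) :=
    (NatTrans.naturality_apply p.hom (openIncl V O).op a).symm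
  rw [e]
  refine (map_nsmul (p.hom.app (op W)).hom m _).symm.trans ?_
  refine (congrArg (p.hom.app (op W)) hb.symm).trans ?_
  exact ConcreteCategory.congr_hom (congrArg (fun φ => φ.hom.app (op W)) hp) b

/-- The higher direct images from the spectrum of a field are torsion. -/
theorem isTorsion_rightDerived {X : Scheme.{u}} (f : Spec (CommRingCat.of k) ⟶ X) [QuasiCompact f]
    [(EtCoh.push f).Additive] (F : EtCoh.Ab (Spec (CommRingCat.of k))) (p : ℕ) :
    EtCoh.IsTorsion (((EtCoh.push f).rightDerived (p + 1)).obj F) := by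
  let S := EtCoh.push f
  haveI : PreservesFiniteLimits S := (EtCoh.pullPushAdj f).rightAdjoint_preservesLimits.{0, 0}.preservesFiniteLimits
  let R := InjectiveResolution.of F
  let C := R.cocomplex
  let l : C.X p ⟶ kernel (C.d (p + 1) (p + 1 + 1)) := kernel.lift _ (C.d p (p + 1)) (C.d_comp_d _ _ _)
  haveI : Epi l := (R.exact_succ p).epi_kernelLift
  let T : ShortComplex (EtCoh.Ab (Spec (CommRingCat.of k))) := ShortComplex.mk (kernel.ι l) l (kernel.condition l)
  have hT : T.ShortExact :=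
    { exact := ShortComplex.exact_of_f_is_kernel _ (kernelIsKernel l)
      epi_g := inferInstanceAs (Epi l) }
  let K := (S.mapHomologicalComplex (ComplexShape.up ℕ)).obj C
  have hlim : IsLimit (KernelFork.ofι (S.map (kernel.ι (C.d (p + 1) (p + 1 + 1))))
      (by rw [← S.map_comp, kernel.condition, S.map_zero] :
        S.map (kernel.ι (C.d (p + 1) (p + 1 + 1))) ≫ S.map (C.d (p + 1) (p + 1 + 1)) = 0)) :=
    isLimitForkMapOfIsLimit' S (kernel.condition _) (kernelIsKernel _)
  let ε : S.obj T.X₃ ≅ K.cycles (p + 1) :=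
    hlim.conePointUniqueUpToIso (K.cyclesIsKernel (p + 1) (p + 1 + 1) (by simp))
  have hε : ε.hom ≫ K.iCycles (p + 1) = S.map (kernel.ι (C.d (p + 1) (p + 1 + 1))) :=
    hlim.conePointUniqueUpToIso_hom_comp _ WalkingParallelPair.zero
  have hto : S.map l ≫ ε.hom = K.toCycles p (p + 1) := by
    rw [← cancel_mono (K.iCycles (p + 1)), Category.assoc, hε, HomologicalComplex.toCycles_i, ← S.map_comp, kernel.lift_ι]
    rfl
  refine isTorsion_of_comp_eq_zero f hT (ε.hom ≫ K.homologyπ (p + 1) ≫ (R.isoRightDerivedObj S (p + 1)).inv) ?_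
  show S.map l ≫ _ = 0
  rw [← Category.assoc, hto, ← Category.assoc, HomologicalComplex.toCycles_comp_homologyπ, zero_comp]

end Groth.Agent.DixTors
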